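import Cfsg.Agent.H740.Eight.HeckeDeg
import Cfsg.Agent.H740.Eight.TwFTwo
import Cfsg.Agent.H329.PQ.MF
import Mathlib.LinearAlgebra.Lagrange
import Cfsg.Agent.S1068

/-!
# S4612, row `²F₄(q)`, part (1): the permutation character of rank five (task 5076)

`P` the maximal parabolic subgroup of index `(q + 1) (q³ + 1) (q⁶ + 1)` of `G = ²F₄(q)`, `q = 2 ^ (2m + 1)`, `m ≥ 1`:
`1_P^G` is the sum of five different irreducible characters of known degrees (`exists_mf`).

General part: `char_of_idem` (the character of a primitive idempotent of the Hecke algebra), `mf_of_oct` (the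
decomposition for a group with a (B,N)-pair of type `I₂(8)` with the parameters `q², q`).
-/

set_option autoImplicit false
set_option linter.unusedSectionVars false

namespace Cfsg.Agent.H638.PQ.TwFMF

open Cfsg Cfsg.Agent.LieRecognition.FeitHigmanGroup Cfsg.Agent.LieExceptional.BNPairCore
open Cfsg.Agent.LieRecognition.FeitHigmanHecke (Y Y_def Y_symm Y_mul_A Y_mul_B comm_sq aeval_P_mul Y_mul_AB)
open Cfsg.Agent.H740.Eight.Hecke Cfsg.Agent.H740.Eight.HeckeAlg Cfsg.Agent.H740.Eight.HeckeDeg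

universe u

/-! ### The character of an idempotent -/

section GSet

variable {G : Type*} [Group G] {X : Type*} [MulAction G X] [Fintype X] [DecidableEq X]

theorem trace_perm_comp (e : Matrix X X ℂ) (g : G) :
    LinearMap.trace ℂ (X → ℂ) (perm G X g ∘ₗ Matrix.toLin' e) = ∑ x, e x (g • x) := by
  rw [LinearMap.trace_eq_matrix_trace ℂ (Pi.basisFun ℂ X), Matrix.trace]
  refine Fintype.sum_equiv (MulAction.toPerm g⁻¹) _ _ fun y => ?_
  rw [Matrix.diag_apply, LinearMap.toMatrix_apply]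
  simp only [Pi.basisFun_apply, Pi.basisFun_repr, LinearMap.comp_apply]
  rw [perm_apply, Matrix.toLin'_apply, Matrix.mulVec_single_one]
  show e (g⁻¹ • y) y = e (g⁻¹ • y) (g • g⁻¹ • y)
  rw [smul_inv_smul]

/-- **A primitive idempotent gives an irreducible character** -/
theorem idem_char [Finite G] {e : Matrix X X ℂ} (hinv : Inv G e) (he : e * e = e) (hne : e ≠ 0)
    (hprim : ∀ M : Matrix X X ℂ, Inv G M → ∃ c : ℂ, e * M * e = c • e) :
    IsIrrCharacter G (fun g : G => ∑ x, e x (g • x)) := by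
  set E := Matrix.toLin' e with hE
  have hEE : ∀ v, E (E v) = E v := fun v => by
    have h1 : E ∘ₗ E = E := by rw [hE, ← Matrix.toLin'_mul, he]
    exact LinearMap.congr_fun h1 v
  set W := LinearMap.range E with hW
  have hWE : ∀ v ∈ W, E v = v := by
    rintro _ ⟨v, rfl⟩
    exact hEE v
  have hWinv : ∀ g, ∀ v ∈ W, perm G X g v ∈ W := by
    intro g v hv
    refine ⟨perm G X g v, ?_⟩
    rw [hE, perm_comm hinv, ← hE, hWE v hv]
  let ρ : Representation ℂ G W :=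
    { toFun := fun g => (perm G X g).restrict (hWinv g)
      map_one' := by
        refine LinearMap.ext fun v => Subtype.ext ?_
        show perm G X 1 (v : X → ℂ) = v
        rw [map_one]; rfl
      map_mul' := fun g h => by
        refine LinearMap.ext fun v => Subtype.ext ?_
        show perm G X (g * h) (v : X → ℂ) = perm G X g (perm G X h v)
        rw [map_mul]; rfl }
  have hρ : ∀ g (v : W), ((ρ g v : W) : X → ℂ) = perm G X g v := fun g v => rfl
  have hnt : Nontrivial W := by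
    rw [Submodule.nontrivial_iff_ne_bot]
    intro h
    apply hne
    have h1 : E = 0 := LinearMap.range_eq_bot.1 h
    rw [hE] at h1
    exact (LinearEquiv.map_eq_zero_iff _).1 h1
  have hirr : ρ.IsIrreducible := by
    apply irreducible_of_scalar
    intro f hf
    set L : (X → ℂ) →ₗ[ℂ] (X → ℂ) := W.subtype ∘ₗ f ∘ₗ E.rangeRestrict with hL
    have hLa : ∀ v, L v = (f (E.rangeRestrict v) : X → ℂ) := fun v => rfl
    have hLc : ∀ (g : G) v, L (perm G X g v) = perm G X g (L v) := by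
      intro g v
      rw [hLa, hLa, ← hρ, ← hf]
      congr 2
      apply Subtype.ext
      show E (perm G X g v) = perm G X g (E v)
      rw [hE, perm_comm hinv]
    obtain ⟨c, hc⟩ := hprim _ (inv_of_comm hLc)
    have h1 : ∀ v, E (L (E v)) = c • E v := by
      intro v
      have h2 := congrArg Matrix.toLin' hc
      rw [Matrix.toLin'_mul, Matrix.toLin'_mul, Matrix.toLin'_toMatrix', map_smul] at h2
      exact LinearMap.congr_fun h2 v
    refine ⟨c, fun w => Subtype.ext ?_⟩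
    have h3 := h1 (w : X → ℂ)
    have h4 : E.rangeRestrict (w : X → ℂ) = w := Subtype.ext (hWE _ w.2)
    rw [hWE _ w.2, hLa, h4, hWE _ (f w).2] at h3
    exact h3
  have h5 : ρ.character = fun g : G => ∑ x, e x (g • x) := by
    funext g
    rw [← trace_perm_comp, ← hE]
    have h6 : perm G X g ∘ₗ E = (perm G X g ∘ₗ W.subtype) ∘ₗ E.rangeRestrict := by
      refine LinearMap.ext fun v => ?_
      rfl
    rw [h6, LinearMap.trace_comp_comm']
    show LinearMap.trace ℂ W (ρ g) = _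
    congr 1
    refine LinearMap.ext fun v => Subtype.ext ?_
    show perm G X g (v : X → ℂ) = E (perm G X g (v : X → ℂ))
    rw [hWE _ (hWinv g v v.2)]
  rw [← h5]
  exact Characters.Core.isIrrCharacter_of_rep ρ hirr

end GSet

variable {G : Type u} [Group G] {P : BNPair G} [Finite G] [Fintype (G ⧸ P.B)] [DecidableEq (G ⧸ P.B)]

/-- **the character of a primitive idempotent of the Hecke algebra** -/
theorem char_of_idem {s t : G} (hS : P.S = {s, t}) {e : Matrix (G ⧸ P.B) (G ⧸ P.B) ℝ} (hinv : Inv G e)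
    (he : e * e = e) (hne : e ≠ 0) {α c₁ c₂ c₃ : ℝ} (h1 : T P s * e = α • e)
    (h2 : T P s * (T P t * e) = c₁ • e + c₂ • (T P t * e)) (h3 : e * (T P t * e) = c₃ • e) :
    IsIrrCharacter G (fun g : G => ((∑ x, e x (g • x) : ℝ) : ℂ)) := by
  classical
  have ht : t ∈ P.S := by rw [hS]; simp
  set U : Submodule ℝ (Matrix (G ⧸ P.B) (G ⧸ P.B) ℝ) := Submodule.span ℝ {e, T P t * e} with hU
  have heU : e ∈ U := Submodule.subset_span (by simp)
  have hfU : T P t * e ∈ U := Submodule.subset_span (by simp)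
  have hA : ∀ x ∈ U, T P s * x ∈ U := by
    intro x hx
    obtain ⟨a, b, rfl⟩ := Submodule.mem_span_pair.1 hx
    rw [mul_add, mul_smul_comm, mul_smul_comm, h1, h2]
    exact U.add_mem (U.smul_mem _ (U.smul_mem _ heU)) (U.smul_mem _ (U.add_mem (U.smul_mem _ heU) (U.smul_mem _ hfU)))
  have hB : ∀ x ∈ U, T P t * x ∈ U := by
    intro x hx
    obtain ⟨a, b, rfl⟩ := Submodule.mem_span_pair.1 hx
    rw [mul_add, mul_smul_comm, mul_smul_comm, ← mul_assoc (T P t) (T P t), T_sq ht, add_mul, smul_mul_assoc,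
      smul_mul_assoc, one_mul]
    exact U.add_mem (U.smul_mem _ hfU) (U.smul_mem _ (U.add_mem (U.smul_mem _ hfU) (U.smul_mem _ heU)))
  have hcor : ∀ w : G, ∃ c : ℝ, e * T P w * e = c • e := by
    intro w
    obtain ⟨a, b, hab⟩ := Submodule.mem_span_pair.1 (T_mul_mem hS U hA hB w heU)
    refine ⟨a + b * c₃, ?_⟩
    rw [mul_assoc, ← hab, mul_add, mul_smul_comm, mul_smul_comm, he, h3, smul_smul, add_smul]
  set e' : Matrix (G ⧸ P.B) (G ⧸ P.B) ℂ := e.map Complex.ofReal with he'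
  have hmul : ∀ A B : Matrix (G ⧸ P.B) (G ⧸ P.B) ℝ, (A * B).map Complex.ofReal =
      A.map Complex.ofReal * B.map Complex.ofReal := fun A B => Matrix.map_mul (f := Complex.ofRealHom)
  have hprim : ∀ M : Matrix (G ⧸ P.B) (G ⧸ P.B) ℂ, Inv G M → ∃ c : ℂ, e' * M * e' = c • e' := by
    intro M hM
    refine Submodule.span_induction (p := fun M _ => ∃ c : ℂ, e' * M * e' = c • e') ?_ ?_ ?_ ?_ (mem_span hM)
    · rintro _ ⟨w, rfl⟩
      obtain ⟨c, hc⟩ := hcor w
      refine ⟨c, ?_⟩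
      show e' * (T P w).map Complex.ofReal * e' = _
      rw [he', ← hmul, ← hmul, hc]
      ext x y
      simp
    · exact ⟨0, by simp⟩
    · rintro A B _ _ ⟨a, ha⟩ ⟨b, hb⟩
      exact ⟨a + b, by rw [mul_add, add_mul, ha, hb, add_smul]⟩
    · rintro a A _ ⟨b, hb⟩
      exact ⟨a * b, by rw [mul_smul_comm, smul_mul_assoc, hb, smul_smul]⟩
  have hne' : e' ≠ 0 := by
    intro h
    apply hne
    ext x y
    have h4 := congrFun (congrFun h x) y
    rw [he', Matrix.map_apply, Matrix.zero_apply] at h4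
    rw [Matrix.zero_apply]
    exact_mod_cast h4
  have h5 := idem_char (hinv.map Complex.ofReal) (by rw [← hmul, he]) hne' hprim
  convert h5 using 2 with g
  rw [Complex.ofReal_sum]
  rfl

/-- central idempotents -/
theorem char_of_central {s t : G} (hS : P.S = {s, t}) {p : Matrix (G ⧸ P.B) (G ⧸ P.B) ℝ} {θ : ℝ} (hinv : Inv G p)
    (hpA : T P s * p = p * T P s) (hpp : p * p = p) (hY : Y (T P s) (T P t) (q P s) (q P t) * p = θ • p)
    (htr : p.trace + (p * T P s).trace ≠ 0) :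
    IsIrrCharacter G (fun g : G => ((∑ x, ee (T P s) p (q P s) x (g • x) : ℝ) : ℂ)) ∧
      (ee (T P s) p (q P s)).trace * (1 + q P s) = p.trace + (p * T P s).trace := by
  have hs : s ∈ P.S := by rw [hS]; simp
  have ha : (1 : ℝ) + (q P s : ℝ) ≠ 0 := by positivity
  have hA := T_sq (P := P) hs
  set e := ee (T P s) p (q P s) with he
  have htre : e.trace * (1 + q P s) = p.trace + (p * T P s).trace := by
    have h9 : p * (1 + T P s) = p + p * T P s := by rw [mul_add, mul_one]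
    rw [he, ee_def, h9, Matrix.trace_smul, Matrix.trace_add, smul_eq_mul]
    field_simp
  have hne : e ≠ 0 := by
    intro h
    rw [h, Matrix.trace_zero, zero_mul] at htre
    exact htr htre.symm
  have hinv' : Inv G e := by
    rw [he, ee_def]
    exact Inv.smul _ (hinv.mul (Inv.one.add (inv_T s)))
  exact ⟨char_of_idem hS hinv' (ee_sq hA ha hpA hpp) hne (A_ee hA hpA) (A_B_ee hA hY hpA)
    (ee_B_ee hA ha hY hpA hpp), htre⟩

/-! ### The parabolic subgroup `B ∪ B s B` -/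

section par

omit [Finite G] [Fintype (G ⧸ P.B)] [DecidableEq (G ⧸ P.B)]

variable (P) in
/-- `B ∪ B s B` -/
def par {s : G} (hs : s ∈ P.S) : Subgroup G where
  carrier := {g | g ∈ P.B ∨ g ∈ C P s}
  one_mem' := Or.inl (one_mem _)
  inv_mem' := by
    rintro g (h | h)
    · exact Or.inl (inv_mem h)
    · right
      have := inv_mem_C h
      rwa [inv_rel hs] at this
  mul_mem' := by
    rintro g h (hg | hg) (hh | hh)
    · exact Or.inl (mul_mem hg hh)
    · exact Or.inr (mul_mem_C_left hg hh)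
    · exact Or.inr (mul_mem_C_right hh hg)
    · have h1 : R P s ((1 : G) : G ⧸ P.B) (g : G ⧸ P.B) := R_mk_iff.2 (by rwa [inv_one, one_mul])
      have h2 : R P s (g : G ⧸ P.B) ((g * h : G) : G ⧸ P.B) := R_mk_iff.2 (by rwa [inv_mul_cancel_left])
      rcases R_trans hs h1 h2 with h3 | h3
      · left
        rw [QuotientGroup.eq, inv_one, one_mul] at h3
        exact h3
      · right
        rwa [R_mk_iff, inv_one, one_mul] at h3

theorem mem_par {s : G} (hs : s ∈ P.S) {g : G} : g ∈ par P hs ↔ g ∈ P.B ∨ g ∈ C P s := Iff.rfl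

theorem le_par {s : G} (hs : s ∈ P.S) : P.B ≤ par P hs := fun _ h => Or.inl h

variable (P) in
/-- `gB ↦ gP` -/
def proj {s : G} (hs : s ∈ P.S) : G ⧸ P.B → G ⧸ par P hs := Subgroup.quotientMapOfLE (le_par hs)

theorem proj_mk {s : G} (hs : s ∈ P.S) (g : G) : proj P hs (g : G ⧸ P.B) = (g : G ⧸ par P hs) := rfl

theorem proj_smul {s : G} (hs : s ∈ P.S) (g : G) (x : G ⧸ P.B) : proj P hs (g • x) = g • proj P hs x := by
  induction x using QuotientGroup.induction_on with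
  | H h => rfl

theorem proj_eq_iff {s : G} (hs : s ∈ P.S) {x y : G ⧸ P.B} : proj P hs x = proj P hs y ↔ x = y ∨ R P s x y := by
  induction x using QuotientGroup.induction_on with
  | H g =>
  induction y using QuotientGroup.induction_on with
  | H h => rw [proj_mk, proj_mk, QuotientGroup.eq, mem_par, QuotientGroup.eq, R_mk_iff]

end par

omit [Finite G] in
open Classical in
theorem one_add_T_apply {s : G} (hs : s ∈ P.S) (x y : G ⧸ P.B) :
    ((1 : Matrix (G ⧸ P.B) (G ⧸ P.B) ℝ) + T P s) x y = if proj P hs x = proj P hs y then 1 else 0 := by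
  rw [Matrix.add_apply, Matrix.one_apply, T_apply]
  by_cases h : x = y
  · subst h
    rw [if_pos rfl, if_pos rfl, if_neg (R_irrefl (not_mem_B hs) x), add_zero]
  · rw [if_neg h, zero_add]
    have h1 := proj_eq_iff hs (x := x) (y := y)
    by_cases h2 : R P s x y
    · rw [if_pos h2, if_pos (h1.2 (Or.inr h2))]
    · rw [if_neg h2, if_neg]
      intro h3
      rcases h1.1 h3 with h4 | h4
      · exact h h4
      · exact h2 h4

omit [Finite G] in
theorem card_fiber {s : G} (hs : s ∈ P.S) (z : G ⧸ par P hs) : Nat.card {x : G ⧸ P.B // proj P hs x = z} = 1 + q P s := by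
  classical
  induction z using QuotientGroup.induction_on with
  | H g =>
    rw [Nat.card_eq_fintype_card, Fintype.card_subtype]
    have h1 : (Finset.univ.filter fun x : G ⧸ P.B => proj P hs x = (g : G ⧸ par P hs)) =
        insert (g : G ⧸ P.B) (Finset.univ.filter fun x => R P s (g : G ⧸ P.B) x) := by
      ext x
      simp only [Finset.mem_filter, Finset.mem_univ, true_and, Finset.mem_insert]
      rw [← proj_mk hs, eq_comm, proj_eq_iff hs, eq_comm]
    rw [h1, Finset.card_insert_of_notMem, card_filter_R, add_comm]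
    simp only [Finset.mem_filter, Finset.mem_univ, true_and]
    exact R_irrefl (not_mem_B hs) _

omit [DecidableEq (G ⧸ P.B)] in
/-- the index of the parabolic subgroup -/
theorem index_par {s : G} (hs : s ∈ P.S) : (par P hs).index * (1 + q P s) = Nat.card (G ⧸ P.B) := by
  classical
  have : Fintype (G ⧸ par P hs) := Fintype.ofFinite _
  have h1 : Nat.card (G ⧸ P.B) = ∑ z : G ⧸ par P hs, Nat.card {x : G ⧸ P.B // proj P hs x = z} := by
    rw [← Nat.card_congr (Equiv.sigmaFiberEquiv (proj P hs)), Nat.card_sigma]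
  rw [h1, Finset.sum_congr rfl fun z _ => card_fiber hs z, Finset.sum_const, Finset.card_univ, smul_eq_mul,
    ← Nat.card_eq_fintype_card, Subgroup.index_eq_card]

/-- the permutation character -/
theorem sum_fix {s : G} (hs : s ∈ P.S) (g : G) :
    ∑ x : G ⧸ P.B, ((1 + (q P s : ℝ))⁻¹ • ((1 : Matrix (G ⧸ P.B) (G ⧸ P.B) ℝ) + T P s)) x (g • x) =
      (Nat.card (MulAction.fixedBy (G ⧸ par P hs) g) : ℝ) := by
  classical
  have : Fintype (G ⧸ par P hs) := Fintype.ofFinite _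
  have h0 : (1 : ℝ) + (q P s : ℝ) ≠ 0 := by positivity
  have h1 : ∀ x : G ⧸ P.B, ((1 + (q P s : ℝ))⁻¹ • ((1 : Matrix (G ⧸ P.B) (G ⧸ P.B) ℝ) + T P s)) x (g • x) =
      (1 + (q P s : ℝ))⁻¹ * (if proj P hs x ∈ MulAction.fixedBy (G ⧸ par P hs) g then 1 else 0) := by
    intro x
    rw [Matrix.smul_apply, one_add_T_apply hs, smul_eq_mul, proj_smul]
    congr 1
    simp only [MulAction.mem_fixedBy]
    by_cases h : g • proj P hs x = proj P hs x
    · rw [if_pos h.symm, if_pos h]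
    · rw [if_neg (fun h' => h h'.symm), if_neg h]
  rw [Finset.sum_congr rfl fun x _ => h1 x, ← Finset.mul_sum]
  have h2 : ∑ x : G ⧸ P.B, (if proj P hs x ∈ MulAction.fixedBy (G ⧸ par P hs) g then (1 : ℝ) else 0) =
      (Nat.card (MulAction.fixedBy (G ⧸ par P hs) g) : ℝ) * (1 + q P s) := by
    rw [Finset.sum_boole]
    have h3 : (Finset.univ.filter fun x : G ⧸ P.B => proj P hs x ∈ MulAction.fixedBy (G ⧸ par P hs) g).card =
        Nat.card (MulAction.fixedBy (G ⧸ par P hs) g) * (1 + q P s) := by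
      rw [Finset.card_eq_sum_card_fiberwise (f := proj P hs)
        (t := Finset.univ.filter fun z : G ⧸ par P hs => z ∈ MulAction.fixedBy (G ⧸ par P hs) g)]
      · rw [Finset.sum_congr rfl (g := fun _ => 1 + q P s), Finset.sum_const, smul_eq_mul, Nat.card_eq_fintype_card,
          Fintype.card_subtype]
        · intro z hz
          rw [← card_fiber hs z, Nat.card_eq_fintype_card, Fintype.card_subtype]
          congr 1
          ext x
          simp only [Finset.mem_filter, Finset.mem_univ, true_and] at hz ⊢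
          constructor
          · rintro ⟨-, h⟩; exact h
          · intro h; exact ⟨by rw [h]; exact hz, h⟩
      · intro x hx
        simpa using hx
    rw [h3]
    push_cast
    ring
  rw [h2]
  field_simp

/-! ### The Hecke algebra of type `I₂(8)` -/

section alg

open Polynomial

variable {M : Type*} [Ring M] [Algebra ℝ M] {A B : M} {a b : ℝ}

/-- the eigenvalues of the central element -/
def vv (a b σ : ℝ) : Fin 5 → ℝ := ![a * b + 1, -(a + b), σ, -σ, 0]

theorem nodal_vv (a b : ℝ) {σ : ℝ} (hσ : σ ^ 2 = 2 * (a * b)) :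
    Lagrange.nodal Finset.univ (vv a b σ) =
      Cfsg.Agent.LieRecognition.FeitHigmanHecke.P (a * b) 3 * ((X - Polynomial.C (a * b + 1)) * (X + Polynomial.C (a + b))) := by
  have e2 : Cfsg.Agent.LieRecognition.FeitHigmanHecke.P (a * b) 2 =
      X * Cfsg.Agent.LieRecognition.FeitHigmanHecke.P (a * b) 1 -
        Polynomial.C (a * b) * Cfsg.Agent.LieRecognition.FeitHigmanHecke.P (a * b) 0 :=
    Cfsg.Agent.LieRecognition.FeitHigmanHecke.P_add_two _ 0
  have e3 : Cfsg.Agent.LieRecognition.FeitHigmanHecke.P (a * b) 3 =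
      X * Cfsg.Agent.LieRecognition.FeitHigmanHecke.P (a * b) 2 -
        Polynomial.C (a * b) * Cfsg.Agent.LieRecognition.FeitHigmanHecke.P (a * b) 1 :=
    Cfsg.Agent.LieRecognition.FeitHigmanHecke.P_add_two _ 1
  have hσ' : (Polynomial.C σ : ℝ[X]) ^ 2 = 2 * (Polynomial.C a * Polynomial.C b) := by
    rw [← C_pow, hσ, C_mul, C_mul]
    rfl
  rw [e3, e2, Cfsg.Agent.LieRecognition.FeitHigmanHecke.P_one, Cfsg.Agent.LieRecognition.FeitHigmanHecke.P_zero,
    Lagrange.nodal_eq, Fin.prod_univ_five]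
  simp only [vv, Matrix.cons_val_zero, Matrix.cons_val_one, Matrix.cons_val, C_neg, C_add, C_mul, C_0, C_1]
  linear_combination (-(X * (X - (Polynomial.C a * Polynomial.C b + 1)) * (X + (Polynomial.C a + Polynomial.C b)))) * hσ'

theorem aeval_nodal (hA : A * A = (a - 1) • A + a • (1 : M)) (hB : B * B = (b - 1) • B + b • (1 : M))
    (hbr : (A * B) ^ 4 = (B * A) ^ 4) {σ : ℝ} (hσ : σ ^ 2 = 2 * (a * b)) :
    aeval (Y A B a b) (Lagrange.nodal Finset.univ (vv a b σ)) = 0 := by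
  have h1 := aeval_P_mul hA hB 3
  rw [hbr, sub_self] at h1
  have h3 := comm_sq hA hB
  have h2 : aeval (Y A B a b) ((X - Polynomial.C (a * b + 1)) * (X + Polynomial.C (a + b)) : ℝ[X]) =
      (Y A B a b - (a * b + 1) • (1 : M)) * (Y A B a b + (a + b) • (1 : M)) := by
    rw [map_mul, map_sub, map_add (aeval (Y A B a b)) X, aeval_X, aeval_C, aeval_C, Algebra.algebraMap_eq_smul_one,
      Algebra.algebraMap_eq_smul_one]
  rw [nodal_vv a b hσ, map_mul, h2, ← h3, ← mul_assoc, h1, zero_mul]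

variable {y : M} {n : ℕ} {v : Fin n → ℝ}

/-- the Lagrange idempotents -/
noncomputable def ff (y : M) (v : Fin n → ℝ) (i : Fin n) : M := aeval y (Lagrange.basis Finset.univ v i)

theorem sub_mul_basis (v : Fin n → ℝ) (i : Fin n) : ∃ c : ℝ, (X - Polynomial.C (v i)) * Lagrange.basis Finset.univ v i =
    Polynomial.C c * Lagrange.nodal Finset.univ v := by
  refine ⟨∏ j ∈ Finset.univ.erase i, (v i - v j)⁻¹, ?_⟩
  rw [Lagrange.basis, Lagrange.nodal_eq, ← Finset.mul_prod_erase _ _ (Finset.mem_univ i)]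
  simp only [Lagrange.basisDivisor, Finset.prod_mul_distrib, map_prod]
  ring

theorem y_ff (hy : aeval y (Lagrange.nodal Finset.univ v) = 0) (i : Fin n) : y * ff y v i = v i • ff y v i := by
  obtain ⟨c, hc⟩ := sub_mul_basis v i
  have h1 := congrArg (aeval y) hc
  rw [map_mul, map_mul, hy, mul_zero, map_sub, aeval_X, aeval_C, Algebra.algebraMap_eq_smul_one, sub_mul,
    smul_mul_assoc, one_mul, sub_eq_zero] at h1
  exact h1

theorem aeval_ff (hy : aeval y (Lagrange.nodal Finset.univ v) = 0) (i : Fin n) (g : ℝ[X]) :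
    aeval y g * ff y v i = g.eval (v i) • ff y v i := by
  obtain ⟨h, hh⟩ := X_sub_C_dvd_sub_C_eval (p := g) (a := v i)
  have h1 : g = h * (X - Polynomial.C (v i)) + Polynomial.C (g.eval (v i)) := by linear_combination hh
  have h2 : aeval y g = aeval y h * (y - v i • (1 : M)) + g.eval (v i) • (1 : M) := by
    conv_lhs => rw [h1]
    simp only [map_add, map_mul, map_sub, aeval_X, aeval_C, Algebra.algebraMap_eq_smul_one]
  rw [h2, add_mul, mul_assoc, sub_mul, smul_mul_assoc, one_mul, y_ff hy, sub_self, mul_zero, zero_add,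
    smul_mul_assoc, one_mul]

theorem ff_sq (hy : aeval y (Lagrange.nodal Finset.univ v) = 0) (hv : Function.Injective v) (i : Fin n) :
    ff y v i * ff y v i = ff y v i := by
  have h := aeval_ff hy i (Lagrange.basis Finset.univ v i)
  rw [Lagrange.eval_basis_self hv.injOn (Finset.mem_univ i), one_smul] at h
  exact h

theorem sum_ff (hv : Function.Injective v) (hn : 0 < n) : ∑ i, ff y v i = 1 := by
  unfold ff
  rw [← map_sum, Lagrange.sum_basis hv.injOn ⟨⟨0, hn⟩, Finset.mem_univ _⟩, map_one]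

theorem comm_ff {z : M} (h : z * y = y * z) (i : Fin n) : z * ff y v i = ff y v i * z := by
  unfold ff
  generalize Lagrange.basis Finset.univ v i = g
  induction g using Polynomial.induction_on' with
  | add f g hf hg => rw [map_add, mul_add, add_mul, hf, hg]
  | monomial k c =>
    rw [aeval_monomial, Algebra.algebraMap_eq_smul_one, smul_mul_assoc, one_mul, mul_smul_comm, smul_mul_assoc]
    congr 1
    exact (show Commute z y from h).pow_right k

end alg

/-! ### The traces -/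

section trace

variable {X : Type*} [Fintype X] [DecidableEq X] {A B : Matrix X X ℝ} {a b : ℝ}

/-- **the traces** -/
theorem traces (hA : A * A = (a - 1) • A + a • (1 : Matrix X X ℝ)) (hB : B * B = (b - 1) • B + b • (1 : Matrix X X ℝ))
    (hAB : ∀ k, 1 ≤ k → k ≤ 4 → ((A * B) ^ k).trace = 0) (hAt : A.trace = 0) (hBt : B.trace = 0)
    {N : ℝ} (hN : (1 : Matrix X X ℝ).trace = N) (y : Matrix X X ℝ) (hy : y = Y A B a b) :
    y.trace + (y * A).trace = (-b + 1) * N ∧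
    (y ^ 2).trace + (y ^ 2 * A).trace = (a * b + b ^ 2 - b + 1) * N ∧
    (y ^ 3).trace + (y ^ 3 * A).trace = (-2 * a * b ^ 2 - b ^ 3 + 2 * a * b + b ^ 2 - b + 1) * N ∧
    (y ^ 4).trace + (y ^ 4 * A).trace = (2 * a ^ 2 * b ^ 2 + 3 * a * b ^ 3 + b ^ 4 - 3 * a * b ^ 2 - b ^ 3 + 3 * a * b + b ^ 2 - b + 1) * N := by
  have hcA : A * y = y * A := by rw [hy]; exact (Y_mul_A hA).symm
  have hcB : B * y = y * B := by rw [hy]; exact (Y_mul_B hB).symm
  have hkA : ∀ k : ℕ, A * y ^ k = y ^ k * A := fun k => (show Commute A y from hcA).pow_right k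
  have hkB : ∀ k : ℕ, B * y ^ k = y ^ k * B := fun k => (show Commute B y from hcB).pow_right k
  have t : ∀ k : ℕ, (y ^ (k + 1)).trace = 2 * (y ^ k * (A * B)).trace - (b - 1) * (y ^ k * A).trace -
      (a - 1) * (y ^ k * B).trace + (a - 1) * (b - 1) * (y ^ k).trace := by
    intro k
    have := tr_Y (A := A) (B := B) (a := a) (b := b) (hkA k)
    rw [← hy, ← pow_succ] at this
    exact this
  have s : ∀ k : ℕ, (y ^ (k + 1) * A).trace = (a - 1) * (y ^ k * (A * B)).trace + 2 * a * (y ^ k * B).trace -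
      a * (b - 1) * (y ^ k).trace := by
    intro k
    have := tr_YA (B := B) (a := a) (b := b) hA (hkA k)
    rw [← hy, ← pow_succ] at this
    exact this
  have u : ∀ k : ℕ, (y ^ (k + 1) * B).trace = (b - 1) * (y ^ k * (A * B)).trace + 2 * b * (y ^ k * A).trace -
      b * (a - 1) * (y ^ k).trace := by
    intro k
    have := tr_YB (A := A) (a := a) (b := b) hB (hkA k) (hkB k)
    rw [← hy, ← pow_succ] at this
    exact this
  have v : ∀ k j : ℕ, (y ^ (k + 1) * (A * B) ^ (j + 1)).trace = (y ^ k * (A * B) ^ (j + 2)).trace +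
      a * b * (y ^ k * (A * B) ^ j).trace := by
    intro k j
    have h1 : y * (A * B) ^ (j + 1) = (A * B) ^ (j + 2) + (a * b) • (A * B) ^ j := by
      have := Y_mul_AB hA hB
      rw [← hy] at this
      rw [pow_succ', ← mul_assoc, this, add_mul, smul_mul_assoc, one_mul, pow_succ', pow_succ', mul_assoc]
    rw [pow_succ, mul_assoc, h1, mul_add, Matrix.trace_add, mul_smul_comm, Matrix.trace_smul, smul_eq_mul]
  have v01 := hAB 1 (by norm_num) (by norm_num)
  have v02 := hAB 2 (by norm_num) (by norm_num)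
  have v03 := hAB 3 (by norm_num) (by norm_num)
  have v04 := hAB 4 (by norm_num) (by norm_num)
  have v11 := v 0 0
  have v21 := v 1 0
  have v31 := v 2 0
  have v12 := v 0 1
  have v13 := v 0 2
  have v22 := v 1 1
  have t1 := t 0
  have t2 := t 1
  have t3 := t 2
  have t4 := t 3
  have s1 := s 0
  have s2 := s 1
  have s3 := s 2
  have s4 := s 3
  have u1 := u 0
  have u2 := u 1
  have u3 := u 2
  clear t s u v
  simp only [zero_add, pow_zero, one_mul, pow_one, mul_one, Nat.reduceAdd, hN, hAt, hBt] at *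
  rw [v02] at v11
  rw [v01] at t1 s1 u1
  rw [v03, v01] at v12
  rw [v04, v02] at v13
  rw [v11, s1, u1, t1] at t2
  rw [v11, u1, t1] at s2
  rw [v11, s1, t1] at u2
  rw [v12, t1] at v21
  rw [v21, s2, u2, t2] at t3
  rw [v21, u2, t2] at s3
  rw [v21, s2, t2] at u3
  rw [v13, v11] at v22
  rw [v22, t2] at v31
  rw [v31, s3, u3, t3] at t4
  rw [v31, u3, t3] at s4
  refine ⟨?_, ?_, ?_, ?_⟩
  · rw [t1, s1]; ring
  · rw [t2, s2]; ring
  · rw [t3, s3]; ring
  · rw [t4, s4]; ring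

end trace

/-! ### The traces of the Lagrange idempotents -/

section fftrace

open Polynomial

theorem aeval_four {M : Type*} [Ring M] [Algebra ℝ M] (y : M) (x₁ x₂ x₃ x₄ c₁ c₂ c₃ c₄ : ℝ) :
    aeval y ((Polynomial.C c₁ * (X - Polynomial.C x₁)) * ((Polynomial.C c₂ * (X - Polynomial.C x₂)) *
      ((Polynomial.C c₃ * (X - Polynomial.C x₃)) * (Polynomial.C c₄ * (X - Polynomial.C x₄))))) =
      (c₁ * c₂ * c₃ * c₄) • (y ^ 4 - (x₁ + x₂ + x₃ + x₄) • y ^ 3 +
        (x₁ * x₂ + x₁ * x₃ + x₁ * x₄ + x₂ * x₃ + x₂ * x₄ + x₃ * x₄) • y ^ 2 -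
        (x₁ * x₂ * x₃ + x₁ * x₂ * x₄ + x₁ * x₃ * x₄ + x₂ * x₃ * x₄) • y + (x₁ * x₂ * x₃ * x₄) • (1 : M)) := by
  have h1 : ((Polynomial.C c₁ * (X - Polynomial.C x₁)) * ((Polynomial.C c₂ * (X - Polynomial.C x₂)) *
      ((Polynomial.C c₃ * (X - Polynomial.C x₃)) * (Polynomial.C c₄ * (X - Polynomial.C x₄)))) : ℝ[X]) =
      Polynomial.C (c₁ * c₂ * c₃ * c₄) * (X ^ 4 - Polynomial.C (x₁ + x₂ + x₃ + x₄) * X ^ 3 +
        Polynomial.C (x₁ * x₂ + x₁ * x₃ + x₁ * x₄ + x₂ * x₃ + x₂ * x₄ + x₃ * x₄) * X ^ 2 -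
        Polynomial.C (x₁ * x₂ * x₃ + x₁ * x₂ * x₄ + x₁ * x₃ * x₄ + x₂ * x₃ * x₄) * X +
        Polynomial.C (x₁ * x₂ * x₃ * x₄)) := by
    simp only [C_mul, C_add]
    ring
  rw [h1, map_mul, map_add, map_sub, map_add (aeval y) (_ - _), map_sub, map_mul (aeval y) (Polynomial.C _),
    map_mul (aeval y) (Polynomial.C _), map_mul (aeval y) (Polynomial.C _)]
  simp only [map_pow, aeval_X, aeval_C, Algebra.algebraMap_eq_smul_one, smul_mul_assoc, one_mul]

variable {X₀ : Type*} [Fintype X₀] [DecidableEq X₀] {A y : Matrix X₀ X₀ ℝ}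

theorem trace_ff {N m₁ m₂ m₃ m₄ : ℝ} (h0 : (1 : Matrix X₀ X₀ ℝ).trace + A.trace = N)
    (h1 : y.trace + (y * A).trace = m₁ * N) (h2 : (y ^ 2).trace + (y ^ 2 * A).trace = m₂ * N)
    (h3 : (y ^ 3).trace + (y ^ 3 * A).trace = m₃ * N) (h4 : (y ^ 4).trace + (y ^ 4 * A).trace = m₄ * N)
    (v : Fin 5 → ℝ) (hv : Function.Injective v) (i j k l m : Fin 5) (he : Finset.univ.erase i = {j, k, l, m})
    (hj : j ∉ ({k, l, m} : Finset (Fin 5))) (hk : k ∉ ({l, m} : Finset (Fin 5))) (hl : l ≠ m) {x₀ x₁ x₂ x₃ x₄ : ℝ}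
    (e0 : v i = x₀) (e1 : v j = x₁) (e2 : v k = x₂) (e3 : v l = x₃) (e4 : v m = x₄) {d : ℝ}
    (hd : (m₄ - (x₁ + x₂ + x₃ + x₄) * m₃ + (x₁ * x₂ + x₁ * x₃ + x₁ * x₄ + x₂ * x₃ + x₂ * x₄ + x₃ * x₄) * m₂ -
      (x₁ * x₂ * x₃ + x₁ * x₂ * x₄ + x₁ * x₃ * x₄ + x₂ * x₃ * x₄) * m₁ + x₁ * x₂ * x₃ * x₄) * N =
      (x₀ - x₁) * (x₀ - x₂) * (x₀ - x₃) * (x₀ - x₄) * d) :
    (ff y v i).trace + (ff y v i * A).trace = d := by
  have hne : ∀ z ∈ ({j, k, l, m} : Finset (Fin 5)), v i - v z ≠ 0 := by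
    intro z hz
    rw [← he, Finset.mem_erase] at hz
    exact sub_ne_zero.2 fun h => hz.1 (hv h).symm
  have n1 := hne j (by simp)
  have n2 := hne k (by simp)
  have n3 := hne l (by simp)
  have n4 := hne m (by simp)
  rw [e0] at n1 n2 n3 n4
  rw [e1] at n1
  rw [e2] at n2
  rw [e3] at n3
  rw [e4] at n4
  have hff : ff y v i = ((x₀ - x₁)⁻¹ * (x₀ - x₂)⁻¹ * (x₀ - x₃)⁻¹ * (x₀ - x₄)⁻¹) • (y ^ 4 - (x₁ + x₂ + x₃ + x₄) • y ^ 3 +
        (x₁ * x₂ + x₁ * x₃ + x₁ * x₄ + x₂ * x₃ + x₂ * x₄ + x₃ * x₄) • y ^ 2 -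
        (x₁ * x₂ * x₃ + x₁ * x₂ * x₄ + x₁ * x₃ * x₄ + x₂ * x₃ * x₄) • y + (x₁ * x₂ * x₃ * x₄) • 1) := by
    rw [← aeval_four]
    unfold ff
    rw [Lagrange.basis, he, Finset.prod_insert hj, Finset.prod_insert hk, Finset.prod_insert (by simpa using hl),
      Finset.prod_singleton]
    simp only [Lagrange.basisDivisor, e0, e1, e2, e3, e4]
  have h5 : (ff y v i).trace + (ff y v i * A).trace =
      ((x₀ - x₁)⁻¹ * (x₀ - x₂)⁻¹ * (x₀ - x₃)⁻¹ * (x₀ - x₄)⁻¹) *
      ((m₄ - (x₁ + x₂ + x₃ + x₄) * m₃ + (x₁ * x₂ + x₁ * x₃ + x₁ * x₄ + x₂ * x₃ + x₂ * x₄ + x₃ * x₄) * m₂ -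
      (x₁ * x₂ * x₃ + x₁ * x₂ * x₄ + x₁ * x₃ * x₄ + x₂ * x₃ * x₄) * m₁ + x₁ * x₂ * x₃ * x₄) * N) := by
    rw [hff]
    simp only [add_mul, sub_mul, smul_mul_assoc, one_mul, Matrix.trace_add, Matrix.trace_sub, Matrix.trace_smul,
      smul_eq_mul]
    linear_combination ((x₀ - x₁)⁻¹ * (x₀ - x₂)⁻¹ * (x₀ - x₃)⁻¹ * (x₀ - x₄)⁻¹) * (h4 - (x₁ + x₂ + x₃ + x₄) * h3 +
      (x₁ * x₂ + x₁ * x₃ + x₁ * x₄ + x₂ * x₃ + x₂ * x₄ + x₃ * x₄) * h2 -
      (x₁ * x₂ * x₃ + x₁ * x₂ * x₄ + x₁ * x₃ * x₄ + x₂ * x₃ * x₄) * h1 + x₁ * x₂ * x₃ * x₄ * h0)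
  rw [h5, hd]
  field_simp

end fftrace

/-! ### The numbers -/

section numbers

/-- the degrees, `w = 2 ^ m`, `Q = 2 w²`, `r = 2 w` -/
noncomputable def dd (w : ℝ) : Fin 5 → ℝ :=
  ![1, 2 * w ^ 2 * (4 * w ^ 4 - 2 * w ^ 2 + 1) * (16 * w ^ 8 - 4 * w ^ 4 + 1),
    w ^ 4 * (2 * w ^ 2 + 1) ^ 2 * (2 * w ^ 2 - 2 * w + 1) ^ 2 * (4 * w ^ 4 - 2 * w ^ 2 + 1) *
      (4 * w ^ 4 + 4 * w ^ 3 + 2 * w ^ 2 + 2 * w + 1),
    w ^ 4 * (2 * w ^ 2 + 1) ^ 2 * (2 * w ^ 2 + 2 * w + 1) ^ 2 * (4 * w ^ 4 - 2 * w ^ 2 + 1) *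
      (4 * w ^ 4 - 4 * w ^ 3 + 2 * w ^ 2 - 2 * w + 1),
    2 * w ^ 4 * (4 * w ^ 4 + 1) ^ 2 * (16 * w ^ 8 - 4 * w ^ 4 + 1)]

theorem vv_inj {w : ℝ} (hw : 2 ≤ w) : Function.Injective (vv (4 * w ^ 4) (2 * w ^ 2) (4 * w ^ 3)) := by
  have h1 : 0 < w ^ 3 := by positivity
  have h2 : w ^ 3 < w ^ 4 := by nlinarith
  have h3 : w ^ 4 < w ^ 6 := by
    have h5 : (4 : ℝ) ≤ w ^ 2 := by nlinarith
    have h6 : 0 < w ^ 4 := by positivity
    nlinarith
  have h4 : 0 < w ^ 2 := by positivity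
  have e : 4 * w ^ 4 * (2 * w ^ 2) = 8 * w ^ 6 := by ring
  intro i j hij
  fin_cases i <;> fin_cases j <;> simp only [vv, Fin.zero_eta, Fin.mk_one, Fin.reduceFinMk, Matrix.cons_val_zero, Matrix.cons_val_one, Matrix.cons_val, e] at hij ⊢ <;> linarith

variable {X₀ : Type*} [Fintype X₀] [DecidableEq X₀] {A B : Matrix X₀ X₀ ℝ}

theorem trace_dd {w : ℝ} (hw : 2 ≤ w) (hA : A * A = (4 * w ^ 4 - 1) • A + (4 * w ^ 4) • (1 : Matrix X₀ X₀ ℝ))
    (hB : B * B = (2 * w ^ 2 - 1) • B + (2 * w ^ 2) • (1 : Matrix X₀ X₀ ℝ))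
    (hAB : ∀ k, 1 ≤ k → k ≤ 4 → ((A * B) ^ k).trace = 0) (hAt : A.trace = 0) (hBt : B.trace = 0)
    (hN : (1 : Matrix X₀ X₀ ℝ).trace = (1 + 2 * w ^ 2) * (1 + 4 * w ^ 4) * (1 + 8 * w ^ 6) * (1 + 64 * w ^ 12))
    (i : Fin 5) :
    (ff (Y A B (4 * w ^ 4) (2 * w ^ 2)) (vv (4 * w ^ 4) (2 * w ^ 2) (4 * w ^ 3)) i).trace +
      (ff (Y A B (4 * w ^ 4) (2 * w ^ 2)) (vv (4 * w ^ 4) (2 * w ^ 2) (4 * w ^ 3)) i * A).trace =
      (1 + 4 * w ^ 4) * dd w i := by
  obtain ⟨h1, h2, h3, h4⟩ := traces hA hB hAB hAt hBt hN _ rfl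
  have h0 : (1 : Matrix X₀ X₀ ℝ).trace + A.trace =
      (1 + 2 * w ^ 2) * (1 + 4 * w ^ 4) * (1 + 8 * w ^ 6) * (1 + 64 * w ^ 12) := by rw [hN, hAt, add_zero]
  have hinj := vv_inj hw
  fin_cases i
  · refine trace_ff h0 h1 h2 h3 h4 _ hinj 0 1 2 3 4 (by decide) (by decide) (by decide) (by decide)
      (x₀ := 4 * w ^ 4 * (2 * w ^ 2) + 1) (x₁ := -(4 * w ^ 4 + 2 * w ^ 2)) (x₂ := 4 * w ^ 3)
      (x₃ := -(4 * w ^ 3)) (x₄ := 0) rfl rfl rfl rfl rfl ?_
    have e1 : dd w 0 = 1 := rfl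
    change _ = _ * ((1 + 4 * w ^ 4) * dd w 0)
    rw [e1]
    ring
  · refine trace_ff h0 h1 h2 h3 h4 _ hinj 1 0 2 3 4 (by decide) (by decide) (by decide) (by decide)
      (x₀ := -(4 * w ^ 4 + 2 * w ^ 2)) (x₁ := 4 * w ^ 4 * (2 * w ^ 2) + 1) (x₂ := 4 * w ^ 3)
      (x₃ := -(4 * w ^ 3)) (x₄ := 0) rfl rfl rfl rfl rfl ?_
    simp only [dd, Fin.mk_one, Matrix.cons_val_one, Matrix.cons_val_zero]
    ring
  · refine trace_ff h0 h1 h2 h3 h4 _ hinj 2 0 1 3 4 (by decide) (by decide) (by decide) (by decide)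
      (x₀ := 4 * w ^ 3) (x₁ := 4 * w ^ 4 * (2 * w ^ 2) + 1) (x₂ := -(4 * w ^ 4 + 2 * w ^ 2))
      (x₃ := -(4 * w ^ 3)) (x₄ := 0) rfl rfl rfl rfl rfl ?_
    simp only [dd, Fin.reduceFinMk, Matrix.cons_val]
    ring
  · refine trace_ff h0 h1 h2 h3 h4 _ hinj 3 0 1 2 4 (by decide) (by decide) (by decide) (by decide)
      (x₀ := -(4 * w ^ 3)) (x₁ := 4 * w ^ 4 * (2 * w ^ 2) + 1) (x₂ := -(4 * w ^ 4 + 2 * w ^ 2))
      (x₃ := 4 * w ^ 3) (x₄ := 0) rfl rfl rfl rfl rfl ?_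
    simp only [dd, Fin.reduceFinMk, Matrix.cons_val]
    ring
  · refine trace_ff h0 h1 h2 h3 h4 _ hinj 4 0 1 2 3 (by decide) (by decide) (by decide) (by decide)
      (x₀ := 0) (x₁ := 4 * w ^ 4 * (2 * w ^ 2) + 1) (x₂ := -(4 * w ^ 4 + 2 * w ^ 2))
      (x₃ := 4 * w ^ 3) (x₄ := -(4 * w ^ 3)) rfl rfl rfl rfl rfl ?_
    simp only [dd, Fin.reduceFinMk, Matrix.cons_val]
    ring

theorem dd_mono {w : ℝ} (hw : 2 ≤ w) : dd w 0 < dd w 1 ∧ dd w 1 < dd w 2 ∧ dd w 2 < dd w 3 ∧ dd w 3 < dd w 4 := by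
  obtain ⟨z, hz, rfl⟩ : ∃ z, 0 ≤ z ∧ w = z + 2 := ⟨w - 2, by linarith, by ring⟩
  refine ⟨?_, ?_, ?_, ?_⟩
  all_goals
    rw [← sub_pos]
    simp only [dd, Matrix.cons_val_zero, Matrix.cons_val_one, Matrix.cons_val]
    ring_nf
    positivity

end numbers

theorem inv_aeval {y : Matrix (G ⧸ P.B) (G ⧸ P.B) ℝ} (hy : Inv G y) (g : Polynomial ℝ) :
    Inv G (Polynomial.aeval y g) := by
  have hk : ∀ k : ℕ, Inv G (y ^ k) := by
    intro k
    induction k with
    | zero => rw [pow_zero]; exact Inv.one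
    | succ k ih => rw [pow_succ]; exact ih.mul hy
  induction g using Polynomial.induction_on' with
  | add f g hf hg => rw [map_add]; exact hf.add hg
  | monomial k c =>
    rw [Polynomial.aeval_monomial, Algebra.algebraMap_eq_smul_one, smul_mul_assoc, one_mul]
    exact Inv.smul _ (hk k)

/-- **The decomposition of the permutation character**, degrees as traces -/
theorem decomp {s t : G} (hS : P.S = {s, t}) (hst : s ≠ t) (h16 : ((P.B ⊓ P.N).subgroupOf P.N).index = 16)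
    (hs : s ∈ P.S) {σ : ℝ} (hσ : σ ^ 2 = 2 * ((q P s : ℝ) * q P t)) (hv : Function.Injective (vv (q P s) (q P t) σ))
    {y : Matrix (G ⧸ P.B) (G ⧸ P.B) ℝ} (hy : y = Y (T P s) (T P t) (q P s) (q P t)) (d : Fin 5 → ℝ) (hd : ∀ i, 0 < d i)
    (htr : ∀ i, (ff y (vv (q P s) (q P t) σ) i).trace + (ff y (vv (q P s) (q P t) σ) i * T P s).trace =
      (1 + q P s) * d i) :
    ∃ χ : Fin 5 → IrrCharacter G, (∀ g : G, (Nat.card (MulAction.fixedBy (G ⧸ par P hs) g) : ℂ) = ∑ i, (χ i : G → ℂ) g) ∧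
      ∀ i, (charDegree (χ i : G → ℂ) : ℝ) = d i := by
  have ht : t ∈ P.S := by rw [hS]; simp
  obtain ⟨hbr, -⟩ := hecke_data hS hst (n := 8) h16
  have hbr' : (T P s * T P t) ^ 4 = (T P t * T P s) ^ 4 := by
    rw [show (8 : ℕ) = 2 * 4 from rfl, alt_two_mul, alt_two_mul] at hbr
    exact hbr
  have hA := T_sq (P := P) hs
  have hB := T_sq (P := P) ht
  have hyA : T P s * y = y * T P s := by rw [hy]; exact (Y_mul_A hA).symm
  have hnod := aeval_nodal hA hB hbr' hσ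
  rw [← hy] at hnod
  have hyinv : Inv G y := by rw [hy]; exact inv_Y s t _ _
  have ha : (0 : ℝ) < 1 + (q P s : ℝ) := by positivity
  have key : ∀ i, _ := fun i => char_of_central hS (p := ff y (vv (q P s) (q P t) σ) i)
    (θ := vv (q P s) (q P t) σ i) (inv_aeval hyinv _) (comm_ff hyA i) (ff_sq hnod hv i)
    (by rw [← hy]; exact y_ff hnod i) (by rw [htr]; exact (mul_pos ha (hd i)).ne')
  refine ⟨fun i => ⟨_, (key i).1⟩, fun g => ?_, fun i => ?_⟩
  · have h1 := sum_fix hs g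
    have h2 : ∑ i, ee (T P s) (ff y (vv (q P s) (q P t) σ) i) (q P s) =
        (1 + (q P s : ℝ))⁻¹ • ((1 : Matrix (G ⧸ P.B) (G ⧸ P.B) ℝ) + T P s) := by
      simp only [ee_def]
      rw [← Finset.smul_sum, ← Finset.sum_mul, sum_ff hv (by norm_num), one_mul]
    rw [← h2] at h1
    have h3 : (Nat.card (MulAction.fixedBy (G ⧸ par P hs) g) : ℝ) =
        ∑ i, ∑ x, ee (T P s) (ff y (vv (q P s) (q P t) σ) i) (q P s) x (g • x) := by
      rw [← h1, Finset.sum_comm]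
      refine Finset.sum_congr rfl fun x _ => ?_
      rw [Matrix.sum_apply]
    have h4 := congrArg (Complex.ofReal) h3
    rw [Complex.ofReal_natCast, Complex.ofReal_sum] at h4
    exact h4
  · have h1 := (key i).2
    rw [htr, mul_comm] at h1
    have h2 := mul_left_cancel₀ ha.ne' h1
    have h3 := Blocks.Basic.irr_one_eq_charDegree (key i).1
    have h4 : ∑ x, ee (T P s) (ff y (vv (q P s) (q P t) σ) i) (q P s) x ((1 : G) • x) =
        (ee (T P s) (ff y (vv (q P s) (q P t) σ) i) (q P s)).trace := by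
      rw [Matrix.trace]
      refine Finset.sum_congr rfl fun x _ => ?_
      rw [one_smul, Matrix.diag_apply]
    rw [h4, h2] at h3
    exact_mod_cast h3.symm

/-! ### The permutation character -/

/-- **The rank five permutation character**, abstract form -/
theorem mf_of_oct {G : Type u} [Group G] [Finite G] {P : BNPair G} {s t : G} (hS : P.S = {s, t}) (hst : s ≠ t)
    (h16 : ((P.B ⊓ P.N).subgroupOf P.N).index = 16) (hs : s ∈ P.S) {w : ℝ} (hw : 2 ≤ w)
    (hqs : (q P s : ℝ) = 4 * w ^ 4) (hqt : (q P t : ℝ) = 2 * w ^ 2)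
    (hN : (Nat.card (G ⧸ P.B) : ℝ) = (1 + 2 * w ^ 2) * (1 + 4 * w ^ 4) * (1 + 8 * w ^ 6) * (1 + 64 * w ^ 12)) :
    ∃ χ : Fin 5 → IrrCharacter G, Cfsg.Agent.H329.PQ.MF G (G ⧸ par P hs) χ ∧
      ∀ i, (charDegree (χ i : G → ℂ) : ℝ) = dd w i := by
  classical
  have : Fintype (G ⧸ P.B) := Fintype.ofFinite _
  have ht : t ∈ P.S := by rw [hS]; simp
  obtain ⟨-, htr⟩ := hecke_data hS hst (n := 8) h16
  have hA := T_sq (P := P) hs
  have hB := T_sq (P := P) ht
  rw [hqs] at hA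
  rw [hqt] at hB
  have hAB : ∀ k, 1 ≤ k → k ≤ 4 → ((T P s * T P t) ^ k).trace = 0 := by
    intro k h1 h4
    rw [← alt_two_mul]
    exact (htr (2 * k) (by omega) (by omega)).1
  have hAt : (T P s).trace = 0 := by
    have := (htr 1 le_rfl (by norm_num)).1
    rwa [alt_one] at this
  have hBt : (T P t).trace = 0 := by
    have := (htr 1 le_rfl (by norm_num)).2
    rwa [alt_one] at this
  have hN' : (1 : Matrix (G ⧸ P.B) (G ⧸ P.B) ℝ).trace =
      (1 + 2 * w ^ 2) * (1 + 4 * w ^ 4) * (1 + 8 * w ^ 6) * (1 + 64 * w ^ 12) := by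
    rw [Matrix.trace_one, ← Nat.card_eq_fintype_card, hN]
  have hm := dd_mono hw
  have hd : ∀ i, 0 < dd w i := by
    have h0 : dd w 0 = 1 := rfl
    intro i
    fin_cases i
    · show 0 < dd w 0
      linarith
    · show 0 < dd w 1
      linarith
    · show 0 < dd w 2
      linarith
    · show 0 < dd w 3
      linarith
    · show 0 < dd w 4
      linarith
  have key := decomp hS hst h16 hs (σ := 4 * w ^ 3) (by rw [hqs, hqt]; ring) (by rw [hqs, hqt]; exact vv_inj hw)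
    rfl (dd w) hd (by rw [hqs, hqt]; exact trace_dd hw hA hB hAB hAt hBt hN')
  obtain ⟨χ, h1, h2⟩ := key
  refine ⟨χ, ⟨?_, h1⟩, h2⟩
  have hinj : Function.Injective (dd w) := by
    intro i j hij
    fin_cases i <;> fin_cases j <;> simp only [Fin.zero_eta, Fin.mk_one, Fin.reduceFinMk] at hij ⊢ <;> linarith
  intro i j hij
  apply hinj
  rw [← h2, ← h2, hij]

open Cfsg.Lie in
/-- **Part (1) of the row `²F₄(q)`.** -/
theorem exists_mf {K : Type} [Field K] [Fintype K] {m : ℕ} (hm : 1 ≤ m) (hK : Fintype.card K = 2 ^ (2 * m + 1))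
    {Q r : ℤ} (hQ : Q = 2 ^ (2 * m + 1)) (hr : r = 2 ^ (m + 1)) :
    ∃ (P : Subgroup ↥(twistedF4 K (2 ^ m))) (χ : Fin 5 → IrrCharacter ↥(twistedF4 K (2 ^ m))),
      Cfsg.Agent.H329.PQ.MF ↥(twistedF4 K (2 ^ m)) (↥(twistedF4 K (2 ^ m)) ⧸ P) χ ∧
      (P.index : ℤ) = (Q + 1) * (Q ^ 3 + 1) * (Q ^ 6 + 1) ∧
      charDegree (χ 0 : ↥(twistedF4 K (2 ^ m)) → ℂ) = 1 ∧
      (charDegree (χ 1 : ↥(twistedF4 K (2 ^ m)) → ℂ) : ℤ) = Q * (Q ^ 2 - Q + 1) * (Q ^ 4 - Q ^ 2 + 1) ∧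
      4 * (charDegree (χ 2 : ↥(twistedF4 K (2 ^ m)) → ℂ) : ℤ) =
        Q ^ 2 * (Q + 1) ^ 2 * (Q - r + 1) ^ 2 * (Q ^ 2 - Q + 1) * (Q ^ 2 + r * Q + Q + r + 1) ∧
      4 * (charDegree (χ 3 : ↥(twistedF4 K (2 ^ m)) → ℂ) : ℤ) =
        Q ^ 2 * (Q + 1) ^ 2 * (Q + r + 1) ^ 2 * (Q ^ 2 - Q + 1) * (Q ^ 2 - r * Q + Q - r + 1) ∧
      2 * (charDegree (χ 4 : ↥(twistedF4 K (2 ^ m)) → ℂ) : ℤ) = Q ^ 2 * (Q ^ 2 + 1) ^ 2 * (Q ^ 4 - Q ^ 2 + 1) := by
  have : Fact (Nat.Prime 2) := ⟨Nat.prime_two⟩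
  have hcard := Cfsg.Agent.S1068.result hK
  have hfin : Finite ↥(twistedF4 K (2 ^ m)) := by
    refine Nat.finite_of_card_ne_zero ?_
    rw [hcard]
    have h1 : 1 < 2 ^ (2 * m + 1) := Nat.one_lt_two_pow (by omega)
    have h2 : 0 < 2 ^ (2 * m + 1) - 1 := by omega
    have h3 : 0 < (2 ^ (2 * m + 1)) ^ 4 - 1 := by
      have := Nat.one_lt_pow (n := 4) (by norm_num) h1
      omega
    positivity
  obtain ⟨P, UE, s, t, V, V', hsp, hS, hrel, nV, nV', iV, iV', cU, cT⟩ :=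
    Cfsg.Agent.H740.Eight.TwFTwo.exists_pair (K := K) (m := m) hK
  have hsS : s ∈ P.S := by rw [hS]; simp
  have htS : t ∈ P.S := by rw [hS]; simp
  have hS' : P.S = {t, s} := by rw [hS, Set.pair_comm]
  have hqs := Cfsg.Agent.H740.Eight.HeckeDeg.q_eq hsp hsS nV
  have hqt := Cfsg.Agent.H740.Eight.HeckeDeg.q_eq hsp htS nV'
  rw [iV] at hqs
  rw [iV'] at hqt
  set n : ℕ := 2 ^ (2 * m + 1) with hn
  have hn1 : 8 ≤ n := by
    rw [hn]
    calc 8 = 2 ^ 3 := by norm_num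
      _ ≤ 2 ^ (2 * m + 1) := Nat.pow_le_pow_right (by norm_num) (by omega)
  have hst : t ≠ s := by
    rintro rfl
    rw [hqs] at hqt
    nlinarith
  have hB := Cfsg.Agent.H740.Eight.TwFTwo.card_B hsp
  rw [cU, cT] at hB
  have hN : Nat.card (↥(twistedF4 K (2 ^ m)) ⧸ P.B) = (1 + n) * (1 + n ^ 2) * (1 + n ^ 3) * (1 + n ^ 6) := by
    have h1 := P.B.card_mul_index
    rw [hB, hcard] at h1
    have h3 : P.B.index = (1 + n) * (1 + n ^ 2) * (1 + n ^ 3) * (1 + n ^ 6) := by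
      obtain ⟨k, hk⟩ : ∃ k, n = k + 1 := ⟨n - 1, by omega⟩
      have h5 : n ^ 4 - 1 = k * ((1 + n) * (1 + n ^ 2)) := by
        have : k * ((1 + n) * (1 + n ^ 2)) + 1 = n ^ 4 := by rw [hk]; ring
        omega
      have h6 : n - 1 = k := by omega
      rw [h5, h6] at h1
      have h7 : 0 < n ^ 12 * k ^ 2 := by
        have : 0 < k := by omega
        positivity
      refine Nat.eq_of_mul_eq_mul_left h7 ?_
      rw [h1]
      ring
    rw [← h3, Subgroup.index_eq_card]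
  set w : ℝ := 2 ^ m with hw
  have hnw : (n : ℝ) = 2 * w ^ 2 := by
    rw [hn, hw]
    push_cast
    rw [← pow_mul, pow_succ, mul_comm m 2]
    ring
  have hw2 : 2 ≤ w := by
    rw [hw]
    calc (2 : ℝ) = 2 ^ 1 := by norm_num
      _ ≤ 2 ^ m := pow_le_pow_right₀ (by norm_num) hm
  obtain ⟨χ, h1, h2⟩ := mf_of_oct (P := P) (s := t) (t := s) hS' hst hrel htS hw2
    (by rw [hqt]; push_cast; rw [hnw]; ring) (by rw [hqs, hnw])
    (by rw [hN]; push_cast; rw [hnw]; ring)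
  have hQw : ((Q : ℤ) : ℝ) = 2 * w ^ 2 := by
    rw [← hnw, hQ, hn]
    push_cast
    rfl
  have hrw : ((r : ℤ) : ℝ) = 2 * w := by
    rw [hr, hw]
    push_cast
    ring
  have hft : Fintype (↥(twistedF4 K (2 ^ m)) ⧸ P.B) := Fintype.ofFinite _
  have hidx := index_par (P := P) htS
  rw [hqt, hN] at hidx
  refine ⟨par P htS, χ, h1, ?_, ?_, ?_, ?_, ?_, ?_⟩
  · have h3 : (par P htS).index = (n + 1) * (n ^ 3 + 1) * (n ^ 6 + 1) := by
      have h4 : 0 < 1 + n ^ 2 := by positivity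
      refine Nat.eq_of_mul_eq_mul_right h4 ?_
      rw [hidx]
      ring
    rw [h3, hQ, hn]
    push_cast
    ring
  · have h3 := h2 0
    have h4 : dd w 0 = 1 := rfl
    rw [h4] at h3
    exact_mod_cast h3
  · have h3 := h2 1
    simp only [dd, Matrix.cons_val_zero, Matrix.cons_val_one, Matrix.cons_val] at h3
    have h4 : ((charDegree (χ 1 : ↥(twistedF4 K (2 ^ m)) → ℂ) : ℤ) : ℝ) =
        ((Q * (Q ^ 2 - Q + 1) * (Q ^ 4 - Q ^ 2 + 1) : ℤ) : ℝ) := by
      push_cast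
      rw [hQw, h3]
      ring
    exact_mod_cast h4
  · have h3 := h2 2
    simp only [dd, Matrix.cons_val_zero, Matrix.cons_val_one, Matrix.cons_val] at h3
    have h4 : ((4 * (charDegree (χ 2 : ↥(twistedF4 K (2 ^ m)) → ℂ) : ℤ) : ℤ) : ℝ) =
        ((Q ^ 2 * (Q + 1) ^ 2 * (Q - r + 1) ^ 2 * (Q ^ 2 - Q + 1) * (Q ^ 2 + r * Q + Q + r + 1) : ℤ) : ℝ) := by
      push_cast
      rw [hQw, hrw, h3]
      ring
    exact_mod_cast h4
  · have h3 := h2 3
    simp only [dd, Matrix.cons_val_zero, Matrix.cons_val_one, Matrix.cons_val] at h3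
    have h4 : ((4 * (charDegree (χ 3 : ↥(twistedF4 K (2 ^ m)) → ℂ) : ℤ) : ℤ) : ℝ) =
        ((Q ^ 2 * (Q + 1) ^ 2 * (Q + r + 1) ^ 2 * (Q ^ 2 - Q + 1) * (Q ^ 2 - r * Q + Q - r + 1) : ℤ) : ℝ) := by
      push_cast
      rw [hQw, hrw, h3]
      ring
    exact_mod_cast h4
  · have h3 := h2 4
    simp only [dd, Matrix.cons_val_zero, Matrix.cons_val_one, Matrix.cons_val] at h3
    have h4 : ((2 * (charDegree (χ 4 : ↥(twistedF4 K (2 ^ m)) → ℂ) : ℤ) : ℤ) : ℝ) =
        ((Q ^ 2 * (Q ^ 2 + 1) ^ 2 * (Q ^ 4 - Q ^ 2 + 1) : ℤ) : ℝ) := by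
      push_cast
      rw [hQw, h3]
      ring
    exact_mod_cast h4

end Cfsg.Agent.H638.PQ.TwFMF
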